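import Groth.Agent.H40.Bi.TrV

/-!
# The descent datum induced on an étale quotient of a base-changed descent datum

`g : S' ⟶ S` universally submersive, `p : S₁ ⟶ S`, `D` a descent datum relative to `g` on `V`,
`V₁ = V ×_{S'} (S' ×_S S₁)`.  If `m₁ : V₁ ⟶ U₁` exhibits the base-changed datum (relative to
`S' ×_S S₁ ⟶ S₁`) as the canonical datum of an étale `S₁`-scheme `U₁` (`BiQuot`), then `U₁`
carries a descent datum `E` relative to `p` for which `m₁` is equivariant.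
-/

set_option autoImplicit false
set_option backward.isDefEq.respectTransparency.types false
universe u

open CategoryTheory CategoryTheory.Limits AlgebraicGeometry

namespace Groth.Agent.H40.Bi

open Desc Groth.Agent.H40.DQ Groth.Agent.H40.DGE

variable {S' S S₁ : Scheme.{u}} {g : S' ⟶ S} {p : S₁ ⟶ S} {D : Desc.SchDD g}
  {U₁ : Scheme.{u}} {q₁ : U₁ ⟶ S₁} {m₁ : V₁ p D ⟶ U₁}

theorem compat_of {Z : Scheme.{u}} (z : Z ⟶ V₁ p D) (x : Z ⟶ pullback g p)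
    (h : ((z ≫ pullback.snd D.obj.hom (pullback.fst g p)) ≫ pullback.snd g p) ≫ p =
      (x ≫ pullback.snd g p) ≫ p) :
    ((z ≫ pullback.snd D.obj.hom (pullback.fst g p)) ≫ pullback.fst g p) ≫ g =
      (x ≫ pullback.fst g p) ≫ g := by
  simp only [Category.assoc] at h ⊢
  rw [pullback.condition]
  exact h

theorem compat_precomp {Z Z' : Scheme.{u}} (t : Z' ⟶ Z) {z : Z ⟶ V₁ p D} {x : Z ⟶ pullback g p}
    (h : ((z ≫ pullback.snd D.obj.hom (pullback.fst g p)) ≫ pullback.fst g p) ≫ g =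
      (x ≫ pullback.fst g p) ≫ g) :
    (((t ≫ z) ≫ pullback.snd D.obj.hom (pullback.fst g p)) ≫ pullback.fst g p) ≫ g =
      ((t ≫ x) ≫ pullback.fst g p) ≫ g := by
  simp only [Category.assoc] at h ⊢
  rw [h]

/-- `m₁ : V₁ ⟶ U₁` over `S₁` exhibits the base-changed descent datum (relative to
`S' ×_S S₁ ⟶ S₁`) as the canonical descent datum of `U₁`. -/
structure BiQuot (q₁ : U₁ ⟶ S₁) (m₁ : V₁ p D ⟶ U₁) : Prop where
  isPullback : IsPullback (pullback.snd D.obj.hom (pullback.fst g p)) m₁ (pullback.snd g p) q₁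
  inv : ∀ ⦃Z : Scheme.{u}⦄ (z : Z ⟶ V₁ p D) (x : Z ⟶ pullback g p)
    (h : ((z ≫ pullback.snd D.obj.hom (pullback.fst g p)) ≫ pullback.fst g p) ≫ g =
      (x ≫ pullback.fst g p) ≫ g),
    (z ≫ pullback.snd D.obj.hom (pullback.fst g p)) ≫ pullback.snd g p = x ≫ pullback.snd g p →
    trV z x h ≫ m₁ = z ≫ m₁
  rel : ∀ ⦃Z : Scheme.{u}⦄ (z₁ z₂ : Z ⟶ V₁ p D), z₁ ≫ m₁ = z₂ ≫ m₁ →
    ∀ h : ((z₁ ≫ pullback.snd D.obj.hom (pullback.fst g p)) ≫ pullback.fst g p) ≫ g =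
      ((z₂ ≫ pullback.snd D.obj.hom (pullback.fst g p)) ≫ pullback.fst g p) ≫ g,
    z₂ = trV z₁ (z₂ ≫ pullback.snd D.obj.hom (pullback.fst g p)) h

namespace BiQuot

variable (hq : BiQuot q₁ m₁)

include hq in
theorem w : pullback.snd D.obj.hom (pullback.fst g p) ≫ pullback.snd g p = m₁ ≫ q₁ :=
  hq.isPullback.w

include hq in
theorem over_eq {Z : Scheme.{u}} (z : Z ⟶ V₁ p D) :
    (z ≫ pullback.snd D.obj.hom (pullback.fst g p)) ≫ pullback.snd g p = (z ≫ m₁) ≫ q₁ := by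
  rw [Category.assoc, Category.assoc, hq.w]

include hq in
theorem usub [USub g] : USub m₁ := by
  have : USub (pullback.snd g p) := USub.of_isPullback (IsPullback.of_hasPullback g p)
  exact USub.of_isPullback hq.isPullback

include hq in
/-- the key independence statement. -/
theorem key {Z : Scheme.{u}} (z₁ z₂ : Z ⟶ V₁ p D) (x₁ x₂ : Z ⟶ pullback g p)
    (h₁ : ((z₁ ≫ pullback.snd D.obj.hom (pullback.fst g p)) ≫ pullback.fst g p) ≫ g =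
      (x₁ ≫ pullback.fst g p) ≫ g)
    (h₂ : ((z₂ ≫ pullback.snd D.obj.hom (pullback.fst g p)) ≫ pullback.fst g p) ≫ g =
      (x₂ ≫ pullback.fst g p) ≫ g)
    (hz : z₁ ≫ m₁ = z₂ ≫ m₁) (hx : x₁ ≫ pullback.snd g p = x₂ ≫ pullback.snd g p) :
    trV z₁ x₁ h₁ ≫ m₁ = trV z₂ x₂ h₂ ≫ m₁ := by
  have h12 : ((z₁ ≫ pullback.snd D.obj.hom (pullback.fst g p)) ≫ pullback.fst g p) ≫ g =
      ((z₂ ≫ pullback.snd D.obj.hom (pullback.fst g p)) ≫ pullback.fst g p) ≫ g :=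
    compat_of z₁ (z₂ ≫ pullback.snd D.obj.hom (pullback.fst g p)) (by rw [hq.over_eq, hq.over_eq, hz])
  have e := hq.rel z₁ z₂ hz h12
  have hx2 : ((z₁ ≫ pullback.snd D.obj.hom (pullback.fst g p)) ≫ pullback.fst g p) ≫ g =
      (x₂ ≫ pullback.fst g p) ≫ g := h12.trans h₂
  have e2 : trV z₂ x₂ h₂ = trV z₁ x₂ hx2 :=
    (trV_congr e rfl h₂ (by rw [trV_snd]; exact h₂)).trans (trV_trV z₁ _ x₂ h12 _ hx2)
  have hx12 : ((trV z₁ x₁ h₁ ≫ pullback.snd D.obj.hom (pullback.fst g p)) ≫ pullback.fst g p) ≫ g =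
      (x₂ ≫ pullback.fst g p) ≫ g := by rw [trV_snd, ← h₁, hx2]
  have e3 : trV (trV z₁ x₁ h₁) x₂ hx12 = trV z₁ x₂ hx2 := trV_trV z₁ x₁ x₂ h₁ hx12 hx2
  rw [e2, ← e3]
  exact (hq.inv _ _ hx12 (by rw [trV_snd]; exact hx)).symm

end BiQuot

/-- `ν` is the transport of `μ` to a point over `y₁`. -/
def Star (m₁ : V₁ p D ⟶ U₁) {T : Scheme.{u}} (μ : T ⟶ U₁) (y₁ : T ⟶ S₁) (ν : T ⟶ U₁) : Prop :=
  ∀ ⦃Z : Scheme.{u}⦄ (z : Z ⟶ T) (c' : Z ⟶ V₁ p D) (x : Z ⟶ pullback g p)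
    (h : ((c' ≫ pullback.snd D.obj.hom (pullback.fst g p)) ≫ pullback.fst g p) ≫ g =
      (x ≫ pullback.fst g p) ≫ g),
    c' ≫ m₁ = z ≫ μ → x ≫ pullback.snd g p = z ≫ y₁ → z ≫ ν = trV c' x h ≫ m₁

namespace BiQuot

variable (hq : BiQuot q₁ m₁)

include hq in
theorem exists_cover' [USub g] {T : Scheme.{u}} (μ : T ⟶ U₁) :
    ∃ (T' : Scheme.{u}) (z₀ : T' ⟶ T) (c₀ : T' ⟶ V₁ p D), Surjective z₀ ∧ c₀ ≫ m₁ = z₀ ≫ μ := by
  have := hq.usub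
  have : USub (pullback.fst μ m₁) := USub.of_isPullback (IsPullback.of_hasPullback μ m₁).flip
  exact ⟨pullback μ m₁, pullback.fst μ m₁, pullback.snd μ m₁,
    ⟨USub.surjective (pullback.fst μ m₁)⟩, pullback.condition.symm⟩

include hq in
theorem exists_cover [USub g] {T : Scheme.{u}} (y₀ y₁ : T ⟶ S₁) (hy : y₀ ≫ p = y₁ ≫ p)
    (μ : T ⟶ U₁) (hμ : μ ≫ q₁ = y₀) :
    ∃ (T' : Scheme.{u}) (z₀ : T' ⟶ T) (c₀ : T' ⟶ V₁ p D) (x₀ : T' ⟶ pullback g p),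
      IsPullback z₀ c₀ μ m₁ ∧ x₀ ≫ pullback.snd g p = z₀ ≫ y₁ ∧
      ((c₀ ≫ pullback.snd D.obj.hom (pullback.fst g p)) ≫ pullback.fst g p) ≫ g =
        (x₀ ≫ pullback.fst g p) ≫ g := by
  obtain ⟨z₀, hz₀⟩ : ∃ z₀ : pullback μ m₁ ⟶ T, z₀ = pullback.fst μ m₁ := ⟨_, rfl⟩
  obtain ⟨c₀, hc₀⟩ : ∃ c₀ : pullback μ m₁ ⟶ V₁ p D, c₀ = pullback.snd μ m₁ := ⟨_, rfl⟩
  have hcond : c₀ ≫ m₁ = z₀ ≫ μ := by rw [hz₀, hc₀]; exact pullback.condition.symm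
  have hS : ((c₀ ≫ pullback.snd D.obj.hom (pullback.fst g p)) ≫ pullback.snd g p) ≫ p =
      (z₀ ≫ y₁) ≫ p := by
    rw [hq.over_eq, hcond]
    simp only [Category.assoc]
    rw [reassoc_of% hμ, hy]
  have hS' : ((c₀ ≫ pullback.snd D.obj.hom (pullback.fst g p)) ≫ pullback.fst g p) ≫ g =
      (z₀ ≫ y₁) ≫ p := by
    rw [Category.assoc (c₀ ≫ pullback.snd D.obj.hom (pullback.fst g p)), pullback.condition,
      ← Category.assoc]
    exact hS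
  refine ⟨pullback μ m₁, z₀, c₀, pullback.lift _ _ hS', ?_, pullback.lift_snd _ _ _, ?_⟩
  · rw [hz₀, hc₀]
    exact IsPullback.of_hasPullback μ m₁
  · rw [pullback.lift_fst]

include hq in
theorem exists_star [USub g] [Etale q₁] {T : Scheme.{u}} (y₀ y₁ : T ⟶ S₁) (hy : y₀ ≫ p = y₁ ≫ p)
    (μ : T ⟶ U₁) (hμ : μ ≫ q₁ = y₀) : ∃ ν : T ⟶ U₁, ν ≫ q₁ = y₁ ∧ Star m₁ μ y₁ ν := by
  have := hq.usub
  obtain ⟨T', z₀, c₀, x₀, sq, hx₀g, hcomp₀⟩ := hq.exists_cover y₀ y₁ hy μ hμ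
  have : USub z₀ := USub.of_isPullback sq.flip
  have hcond : c₀ ≫ m₁ = z₀ ≫ μ := sq.w.symm
  obtain ⟨ν', hν'⟩ : ∃ ν' : T' ⟶ U₁, ν' = trV c₀ x₀ hcomp₀ ≫ m₁ := ⟨_, rfl⟩
  have hν'q : ν' ≫ q₁ = z₀ ≫ y₁ := by
    rw [hν', Category.assoc, ← hq.w, trV_snd_assoc, hx₀g]
  let ν'' : T' ⟶ pullback q₁ y₁ := pullback.lift ν' z₀ hν'q
  have h1 : ν'' ≫ pullback.snd q₁ y₁ = z₀ := pullback.lift_snd _ _ _
  have h2 : ν'' ≫ pullback.fst q₁ y₁ = ν' := pullback.lift_fst _ _ _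
  obtain ⟨σ, hσ1, hσ2⟩ := exists_section_of_univSubmersive z₀ (pullback.snd q₁ y₁) ν'' h1 (by
    apply pullback.hom_ext
    · rw [Category.assoc, Category.assoc, h2, hν', ← Category.assoc, ← Category.assoc,
        precomp_trV _ _ _ hcomp₀ (compat_precomp _ hcomp₀),
        precomp_trV _ _ _ hcomp₀ (compat_precomp _ hcomp₀)]
      apply hq.key
      · rw [Category.assoc, Category.assoc, hcond, pullback.condition_assoc]
      · rw [Category.assoc, Category.assoc, hx₀g, pullback.condition_assoc]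
    · rw [Category.assoc, Category.assoc, h1]
      exact pullback.condition)
  refine ⟨σ ≫ pullback.fst q₁ y₁, ?_, ?_⟩
  · rw [Category.assoc, pullback.condition, ← Category.assoc, hσ1, Category.id_comp]
  · intro Z z c' x h hc' hx
    obtain ⟨t, ht1, ht2⟩ : ∃ t : Z ⟶ T', t ≫ z₀ = z ∧ t ≫ c₀ = c' :=
      ⟨sq.lift z c' hc'.symm, sq.lift_fst _ _ _, sq.lift_snd _ _ _⟩
    have e1 : z ≫ σ ≫ pullback.fst q₁ y₁ = t ≫ ν' := by
      rw [← ht1, Category.assoc, ← Category.assoc z₀, hσ2, h2]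
    rw [e1, hν', ← Category.assoc, precomp_trV _ _ _ hcomp₀ (compat_precomp _ hcomp₀)]
    apply hq.key
    · rw [ht2]
    · rw [Category.assoc, hx₀g, ← Category.assoc, ht1, hx]

include hq in
theorem star_unique [USub g] [Etale q₁] {T : Scheme.{u}} (y₀ y₁ : T ⟶ S₁) (hy : y₀ ≫ p = y₁ ≫ p)
    (μ : T ⟶ U₁) (hμ : μ ≫ q₁ = y₀) (ν ν' : T ⟶ U₁) (hν : ν ≫ q₁ = y₁) (hν' : ν' ≫ q₁ = y₁)
    (h : Star m₁ μ y₁ ν) (h' : Star m₁ μ y₁ ν') : ν = ν' := by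
  obtain ⟨T', z₀, c₀, x₀, sq, hx₀g, hcomp₀⟩ := hq.exists_cover y₀ y₁ hy μ hμ
  have := hq.usub
  have : USub z₀ := USub.of_isPullback sq.flip
  have : Surjective z₀ := ⟨USub.surjective z₀⟩
  apply Groth.Agent.H4.eq_of_surjective_comp_eq q₁ ν ν' (hν.trans hν'.symm) z₀
  rw [h z₀ c₀ x₀ hcomp₀ sq.w.symm hx₀g, h' z₀ c₀ x₀ hcomp₀ sq.w.symm hx₀g]

include hq in
theorem star_self {T : Scheme.{u}} (y₀ : T ⟶ S₁) (μ : T ⟶ U₁) (hμ : μ ≫ q₁ = y₀) :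
    Star m₁ μ y₀ μ := by
  intro Z z c' x h hc' hx
  rw [← hc']
  symm
  apply hq.inv
  rw [hq.over_eq, hc', Category.assoc, hμ, hx]

theorem star_natural {T T' : Scheme.{u}} (t : T' ⟶ T) {μ ν : T ⟶ U₁} {y₁ : T ⟶ S₁}
    (hst : Star m₁ μ y₁ ν) : Star m₁ (t ≫ μ) (t ≫ y₁) (t ≫ ν) := by
  intro Z z c' x h hc' hx
  have := hst (z ≫ t) c' x h (by rw [hc', Category.assoc]) (by rw [hx, Category.assoc])
  rw [← Category.assoc]
  exact this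

include hq in
theorem star_trans [USub g] [Etale q₁] {T : Scheme.{u}} (y₀ y₁ y₂ : T ⟶ S₁)
    (hy₀₁ : y₀ ≫ p = y₁ ≫ p) (hy₁₂ : y₁ ≫ p = y₂ ≫ p) (μ ν₁ ν₂ : T ⟶ U₁) (hμ : μ ≫ q₁ = y₀)
    (hν₁ : ν₁ ≫ q₁ = y₁) (hν₂ : ν₂ ≫ q₁ = y₂) (hst₁ : Star m₁ μ y₁ ν₁)
    (hst₂ : Star m₁ μ y₂ ν₂) : Star m₁ ν₁ y₂ ν₂ := by
  intro Z z c'' x'' h hc'' hx''
  obtain ⟨Z', ζ, c', hζ, hc'⟩ := hq.exists_cover' (z ≫ μ)
  have := hζ
  have hover : (z ≫ ν₂) ≫ q₁ = (trV c'' x'' h ≫ m₁) ≫ q₁ := by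
    rw [Category.assoc, hν₂, Category.assoc, ← hq.w, trV_snd_assoc, hx'']
  apply Groth.Agent.H4.eq_of_surjective_comp_eq q₁ _ _ hover ζ
  -- S-level compatibilities
  have hS1 : ((c' ≫ pullback.snd D.obj.hom (pullback.fst g p)) ≫ pullback.snd g p) ≫ p =
      (ζ ≫ z ≫ y₀) ≫ p := by
    rw [hq.over_eq, hc']
    simp only [Category.assoc]
    rw [reassoc_of% hμ]
  have hS2 : ((ζ ≫ c'' ≫ pullback.snd D.obj.hom (pullback.fst g p)) ≫ pullback.snd g p) ≫ p =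
      (ζ ≫ z ≫ y₁) ≫ p := by
    have := hq.over_eq c''
    rw [hc''] at this
    simp only [Category.assoc] at this ⊢
    rw [reassoc_of% this, reassoc_of% hν₁]
  have hxa : ((c' ≫ pullback.snd D.obj.hom (pullback.fst g p)) ≫ pullback.fst g p) ≫ g =
      ((ζ ≫ c'' ≫ pullback.snd D.obj.hom (pullback.fst g p)) ≫ pullback.fst g p) ≫ g := by
    apply compat_of
    rw [hS1, hS2]
    simp only [Category.assoc]
    rw [hy₀₁]
  have hxb : ((c' ≫ pullback.snd D.obj.hom (pullback.fst g p)) ≫ pullback.fst g p) ≫ g =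
      ((ζ ≫ x'') ≫ pullback.fst g p) ≫ g := by
    apply compat_of
    rw [hS1]
    simp only [Category.assoc]
    rw [reassoc_of% hx'', hy₀₁, hy₁₂]
  have s1 := hst₁ (ζ ≫ z) c' (ζ ≫ c'' ≫ pullback.snd D.obj.hom (pullback.fst g p)) hxa
    (by rw [hc', Category.assoc]) (by
      have := hq.over_eq c''
      rw [hc''] at this
      simp only [Category.assoc] at this ⊢
      rw [this, hν₁])
  have s2 : (ζ ≫ c'') ≫ m₁ =
      trV c' (ζ ≫ c'' ≫ pullback.snd D.obj.hom (pullback.fst g p)) hxa ≫ m₁ := by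
    rw [← s1, Category.assoc, hc'', Category.assoc]
  have s3 := hst₂ (ζ ≫ z) c' (ζ ≫ x'') hxb (by rw [hc', Category.assoc])
    (by rw [Category.assoc, hx'', Category.assoc])
  have hB := compat_precomp ζ h
  have hA : ((trV c' (ζ ≫ c'' ≫ pullback.snd D.obj.hom (pullback.fst g p)) hxa ≫
      pullback.snd D.obj.hom (pullback.fst g p)) ≫ pullback.fst g p) ≫ g =
      ((ζ ≫ x'') ≫ pullback.fst g p) ≫ g := by
    rw [trV_snd, ← hxa, hxb]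
  have k := hq.key (trV c' (ζ ≫ c'' ≫ pullback.snd D.obj.hom (pullback.fst g p)) hxa) (ζ ≫ c'')
    (ζ ≫ x'') (ζ ≫ x'') hA hB s2.symm rfl
  rw [trV_trV c' _ _ hxa hA hxb, ← s3, ← precomp_trV ζ c'' x'' h hB] at k
  simpa only [Category.assoc] using k

include hq in
theorem star_symm [USub g] [Etale q₁] {T : Scheme.{u}} (y₀ y₁ : T ⟶ S₁)
    (hy : y₀ ≫ p = y₁ ≫ p) (μ ν : T ⟶ U₁) (hμ : μ ≫ q₁ = y₀) (hν : ν ≫ q₁ = y₁)
    (hst : Star m₁ μ y₁ ν) : Star m₁ ν y₀ μ :=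
  hq.star_trans y₀ y₁ y₀ hy hy.symm μ ν μ hμ hν hμ hst (hq.star_self y₀ μ hμ)

end BiQuot

end Groth.Agent.H40.Bi
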