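import Groth.Agent.H40.Bi.BiQuot

/-!
# The descent datum on `U₁` relative to `p`
-/

set_option autoImplicit false
set_option backward.isDefEq.respectTransparency.types false
universe u

open CategoryTheory CategoryTheory.Limits AlgebraicGeometry

namespace Groth.Agent.H40.Bi

open Desc Groth.Agent.H40.DQ Groth.Agent.H40.DGE

variable {S' S S₁ : Scheme.{u}} {g : S' ⟶ S} {p : S₁ ⟶ S} {D : Desc.SchDD g}
  {U₁ : Scheme.{u}} {q₁ : U₁ ⟶ S₁} {m₁ : V₁ p D ⟶ U₁}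

namespace BiQuot

variable (hq : BiQuot q₁ m₁) [USub g] [Etale q₁]

/-- transport of points of `U₁`. -/
noncomputable def phiFun {T : Scheme.{u}} (y₀ y₁ : T ⟶ S₁) (hy : y₀ ≫ p = y₁ ≫ p)
    (μ : Lifts (Over.mk q₁) y₀) : Lifts (Over.mk q₁) y₁ :=
  ⟨(hq.exists_star y₀ y₁ hy μ.1 μ.2).choose, (hq.exists_star y₀ y₁ hy μ.1 μ.2).choose_spec.1⟩

theorem phiFun_star {T : Scheme.{u}} (y₀ y₁ : T ⟶ S₁) (hy : y₀ ≫ p = y₁ ≫ p)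
    (μ : Lifts (Over.mk q₁) y₀) : Star m₁ μ.1 y₁ (hq.phiFun y₀ y₁ hy μ).1 :=
  (hq.exists_star y₀ y₁ hy μ.1 μ.2).choose_spec.2

theorem phiFun_hom {T : Scheme.{u}} (y₀ y₁ : T ⟶ S₁) (hy : y₀ ≫ p = y₁ ≫ p)
    (μ : Lifts (Over.mk q₁) y₀) : (hq.phiFun y₀ y₁ hy μ).1 ≫ q₁ = y₁ :=
  (hq.exists_star y₀ y₁ hy μ.1 μ.2).choose_spec.1

theorem phiFun_eq {T : Scheme.{u}} (y₀ y₁ : T ⟶ S₁) (hy : y₀ ≫ p = y₁ ≫ p)
    (μ : Lifts (Over.mk q₁) y₀) (ν : T ⟶ U₁) (hν : ν ≫ q₁ = y₁) (hst : Star m₁ μ.1 y₁ ν) :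
    (hq.phiFun y₀ y₁ hy μ).1 = ν :=
  hq.star_unique y₀ y₁ hy μ.1 μ.2 _ _ (hq.phiFun_hom y₀ y₁ hy μ) hν (hq.phiFun_star y₀ y₁ hy μ) hst

/-- the induced descent datum on `U₁` relative to `p`. -/
noncomputable def E : Desc.SchDD p where
  obj := Over.mk q₁
  φ T y₀ y₁ hy :=
    { toFun := hq.phiFun y₀ y₁ hy
      invFun := hq.phiFun y₁ y₀ hy.symm
      left_inv := fun μ => Subtype.ext (hq.phiFun_eq y₁ y₀ hy.symm _ μ.1 μ.2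
        (hq.star_symm y₀ y₁ hy μ.1 _ μ.2 (hq.phiFun_hom y₀ y₁ hy μ) (hq.phiFun_star y₀ y₁ hy μ)))
      right_inv := fun μ => Subtype.ext (hq.phiFun_eq y₀ y₁ hy _ μ.1 μ.2
        (hq.star_symm y₁ y₀ hy.symm μ.1 _ μ.2 (hq.phiFun_hom y₁ y₀ hy.symm μ)
          (hq.phiFun_star y₁ y₀ hy.symm μ))) }
  φ_natural T T' t y₀ y₁ h h' v v' hv' := by
    apply hq.phiFun_eq (t ≫ y₀) (t ≫ y₁) h' v'
    · rw [Category.assoc]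
      congr 1
      exact hq.phiFun_hom y₀ y₁ h v
    · have := star_natural t (hq.phiFun_star y₀ y₁ h v)
      rw [← hv'] at this
      exact this
  φ_self T y μ := Subtype.ext (hq.phiFun_eq y y rfl μ μ.1 μ.2 (hq.star_self y μ.1 μ.2))
  φ_comp T y₀ y₁ y₂ h₀₁ h₁₂ μ := Subtype.ext (by
    apply hq.phiFun_eq y₁ y₂ h₁₂ _ _ (hq.phiFun_hom y₀ y₂ (h₀₁.trans h₁₂) μ)
    exact hq.star_trans y₀ y₁ y₂ h₀₁ h₁₂ μ.1 _ _ μ.2 (hq.phiFun_hom y₀ y₁ h₀₁ μ)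
      (hq.phiFun_hom y₀ y₂ (h₀₁.trans h₁₂) μ) (hq.phiFun_star y₀ y₁ h₀₁ μ)
      (hq.phiFun_star y₀ y₂ (h₀₁.trans h₁₂) μ))

@[simp] theorem E_hom : hq.E.obj.hom = q₁ := rfl

/-- `m₁` is equivariant. -/
theorem tr_E {Z : Scheme.{u}} (z : Z ⟶ V₁ p D) (x : Z ⟶ pullback g p)
    (h : ((z ≫ pullback.snd D.obj.hom (pullback.fst g p)) ≫ pullback.fst g p) ≫ g =
      (x ≫ pullback.fst g p) ≫ g)
    (h' : ((z ≫ m₁) ≫ q₁) ≫ p = (x ≫ pullback.snd g p) ≫ p) :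
    tr hq.E (z ≫ m₁) (x ≫ pullback.snd g p) h' = trV z x h ≫ m₁ := by
  have key := hq.phiFun_star ((z ≫ m₁) ≫ q₁) (x ≫ pullback.snd g p) h' ⟨z ≫ m₁, rfl⟩
    (𝟙 Z) z x h (Category.id_comp _).symm (Category.id_comp _).symm
  rw [Category.id_comp] at key
  exact key

end BiQuot

end Groth.Agent.H40.Bi
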