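import Groth.Agent.H40.Bi.Datum
import Groth.Agent.H40.DF.Pull
import Groth.Agent.S2906

/-!
# Effectivity of étale descent data relative to a universally submersive morphism is fpqc-local
on the base
-/

set_option autoImplicit false
set_option backward.isDefEq.respectTransparency.types false
universe w u

open CategoryTheory CategoryTheory.Limits AlgebraicGeometry

namespace Groth.Agent.H40.Bi

open Desc Groth.Agent.H40.DQ Groth.Agent.H40.DGE

section refine

/-- a descent datum whose pullback along an fpqc refinement `c` is effective is effective. -/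
theorem nonempty_iso_of_pullDD' {X X' S : Scheme.{u}} (p : X ⟶ S) (c : X' ⟶ X) [Flat c]
    [Surjective c] [QuasiCompact c] (D : Desc.SchDD p) (M : Over S)
    (e : (Desc.toDD (c ≫ p)).obj M ≅ DG.pullDD p c D) : Nonempty ((Desc.toDD p).obj M ≅ D) := by
  have hff : (DG.pullFam p c).Full ∧ (DG.pullFam p c).Faithful := by
    apply Groth.Agent.H40.PullDD.full_faithful
      (a := fun _ : PUnit.{u + 1} => c ≫ p) (b := fun _ : PUnit.{u + 1} => p) (α := fun j => j)
      (g := fun _ => c) (fun _ => (rfl : c ≫ p = c ≫ p).trans (Category.comp_id (c ≫ p)).symm)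
    intro j
    let E₀ : PreZeroHypercover.{u} X := ⟨PUnit.{u + 1}, fun _ => X', fun _ => c⟩
    have hE₀ : E₀.presieve₀ ∈ Scheme.fpqcPrecoverage X := by
      have : E₀.presieve₀ = Presieve.singleton c := Presieve.ofArrows_pUnit c
      rw [this]
      exact Scheme.Hom.singleton_mem_fpqcPrecoverage c
    exact ⟨⟨E₀, hE₀⟩, fun k => k, fun _ => 𝟙 X', fun _ => Category.id_comp _⟩
  have : (DG.pullFam p c).Full := hff.1
  have : (DG.pullFam p c).Faithful := hff.2
  let e₀ : (toDDFam (fun _ : PUnit.{u + 1} => c ≫ p)).obj M ≅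
      (DG.pullFam p c).obj ((SchDDFam.ofSchDD p).obj D) := (SchDDFam.ofSchDD (c ≫ p)).mapIso e
  let e₁ : (DG.pullFam p c).obj ((toDDFam (fun _ : PUnit.{u + 1} => p)).obj M) ≅
      (DG.pullFam p c).obj ((SchDDFam.ofSchDD p).obj D) := asIso (DG.canHom p c M) ≪≫ e₀
  let e₂ : (toDDFam (fun _ : PUnit.{u + 1} => p)).obj M ≅ (SchDDFam.ofSchDD p).obj D :=
    (DG.pullFam p c).preimageIso e₁
  exact ⟨(SchDDFam.toSchDD p).mapIso e₂⟩

end refine

/-- points with the same image in a quotient are related by transport. -/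
theorem isQuot_rel {X S : Scheme.{u}} {p : X ⟶ S} {D : Desc.SchDD p} {M : Scheme.{u}} {q : M ⟶ S}
    {m : D.obj.left ⟶ M} (hq : DGE.IsQuot D q m) {T : Scheme.{u}} (v w : T ⟶ D.obj.left)
    (h : v ≫ m = w ≫ m) (h' : (v ≫ D.obj.hom) ≫ p = (w ≫ D.obj.hom) ≫ p) :
    w = tr D v (w ≫ D.obj.hom) h' := by
  obtain ⟨r, hr1, hr2⟩ : ∃ r : T ⟶ RL D, r ≫ tmor D = w ∧ r ≫ pullback.fst _ _ = v :=
    ⟨hq.isPullback.lift w v h.symm, hq.isPullback.lift_fst _ _ _, hq.isPullback.lift_snd _ _ _⟩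
  have hr3 : r ≫ pullback.snd _ _ = w ≫ D.obj.hom := by
    rw [← hr1, Category.assoc, tmor_hom]
  have key := comp_tmor D r
  rw [hr1] at key
  exact key.trans (tr_congr D hr2 hr3 _ _)

theorem isQuot_rel' {X S : Scheme.{u}} {p : X ⟶ S} {D : Desc.SchDD p} {M : Scheme.{u}} {q : M ⟶ S}
    {m : D.obj.left ⟶ M} (hq : DGE.IsQuot D q m) {T : Scheme.{u}} (v w : T ⟶ D.obj.left)
    (h : v ≫ m = w ≫ m) :
    ∃ h' : (v ≫ D.obj.hom) ≫ p = (w ≫ D.obj.hom) ≫ p, w = tr D v (w ≫ D.obj.hom) h' := by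
  have h' : (v ≫ D.obj.hom) ≫ p = (w ≫ D.obj.hom) ≫ p := by
    rw [Category.assoc, Category.assoc, hq.w, ← Category.assoc, h, Category.assoc]
  exact ⟨h', isQuot_rel hq v w h h'⟩

variable {S' S S₁ : Scheme.{u}} {g : S' ⟶ S} {p : S₁ ⟶ S}

section

variable {D : Desc.SchDD g} {U₁ : Scheme.{u}} {q₁ : U₁ ⟶ S₁} {m₁ : V₁ p D ⟶ U₁}

theorem tr_pullDD {Z : Scheme.{u}} (z : Z ⟶ V₁ p D) (x : Z ⟶ pullback g p)
    (h : (z ≫ (DG.pullDD g (pullback.fst g p) D).obj.hom) ≫ pullback.fst g p ≫ g =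
      x ≫ pullback.fst g p ≫ g)
    (h' : ((z ≫ pullback.snd D.obj.hom (pullback.fst g p)) ≫ pullback.fst g p) ≫ g =
      (x ≫ pullback.fst g p) ≫ g) :
    tr (DG.pullDD g (pullback.fst g p) D) z x h = trV z x h' := by
  apply trV_ext
  · exact DF.tr_pull_fst (f := fun _ : PUnit.{u + 1} => g)
      (f' := fun _ : PUnit.{u + 1} => pullback.fst g p ≫ g) (α := fun j => j) (p := 𝟙 S)
      (p' := fun _ => pullback.fst g p)
      (fun _ => (rfl : pullback.fst g p ≫ g = pullback.fst g p ≫ g).trans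
        (Category.comp_id (pullback.fst g p ≫ g)).symm)
      ((SchDDFam.ofSchDD g).obj D) (j₀ := PUnit.unit) (j₁ := PUnit.unit) z x h
  · exact DF.tr_pull_snd (f := fun _ : PUnit.{u + 1} => g)
      (f' := fun _ : PUnit.{u + 1} => pullback.fst g p ≫ g) (α := fun j => j) (p := 𝟙 S)
      (p' := fun _ => pullback.fst g p)
      (fun _ => (rfl : pullback.fst g p ≫ g = pullback.fst g p ≫ g).trans
        (Category.comp_id (pullback.fst g p ≫ g)).symm)
      ((SchDDFam.ofSchDD g).obj D) (j₀ := PUnit.unit) (j₁ := PUnit.unit) z x h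

theorem inv_pullDD [USub g] [Etale q₁] (hq : BiQuot q₁ m₁) {U : Scheme.{u}} {r : U ⟶ S}
    {n : U₁ ⟶ U} (hE : DG.IsQuot hq.E r n) {T : Scheme.{u}} (v : T ⟶ V₁ p D)
    (x : T ⟶ pullback g p)
    (h : (v ≫ (DG.pullDD g (pullback.fst g p) D).obj.hom) ≫ pullback.fst g p ≫ g =
      x ≫ pullback.fst g p ≫ g) :
    tr (DG.pullDD g (pullback.fst g p) D) v x h ≫ m₁ ≫ n = v ≫ m₁ ≫ n := by
  have h0 : (v ≫ pullback.snd D.obj.hom (pullback.fst g p)) ≫ pullback.fst g p ≫ g =
      x ≫ pullback.fst g p ≫ g := h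
  have h' : ((v ≫ pullback.snd D.obj.hom (pullback.fst g p)) ≫ pullback.fst g p) ≫ g =
      (x ≫ pullback.fst g p) ≫ g := by
    simp only [Category.assoc] at h0 ⊢
    exact h0
  have h'' : ((v ≫ m₁) ≫ q₁) ≫ p = (x ≫ pullback.snd g p) ≫ p := by
    rw [← hq.over_eq]
    simp only [Category.assoc] at h' ⊢
    rw [← pullback.condition, h']
  have e2 : trV v x h' ≫ m₁ ≫ n = v ≫ m₁ ≫ n := by
    rw [← Category.assoc, ← hq.tr_E v x h' h'']
    exact (hE.inv (v ≫ m₁) (x ≫ pullback.snd g p) h'').trans (Category.assoc _ _ _)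
  exact (congrArg (fun t : T ⟶ V₁ p D => t ≫ m₁ ≫ n) (tr_pullDD v x h h')).trans e2

theorem isQuot_pullDD [USub g] [Etale q₁] (hq : BiQuot q₁ m₁) {U : Scheme.{u}} {r : U ⟶ S}
    {n : U₁ ⟶ U} (hE : DG.IsQuot hq.E r n) :
    DG.IsQuot (DG.pullDD g (pullback.fst g p) D) r (m₁ ≫ n) := by
  have hEw : q₁ ≫ p = n ≫ r := hE.w
  have hw0 : pullback.snd D.obj.hom (pullback.fst g p) ≫ pullback.fst g p ≫ g = (m₁ ≫ n) ≫ r := by
    rw [pullback.condition, ← Category.assoc, hq.w, Category.assoc, Category.assoc, hEw]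
  have hw : (DG.pullDD g (pullback.fst g p) D).obj.hom ≫ pullback.fst g p ≫ g = (m₁ ≫ n) ≫ r :=
    hw0
  refine ⟨hw, ?_, ?_⟩
  · intro T v x h
    exact inv_pullDD hq hE v x h
  · have sq1 : IsPullback m₁ (pullback.snd D.obj.hom (pullback.fst g p)) q₁ (pullback.snd g p) :=
      hq.isPullback.flip
    have sq2' : IsPullback hq.E.obj.hom n p r := by
      haveI : IsIso hE.θ := hE.iso
      exact IsPullback.of_iso_pullback ⟨hE.w⟩ (asIso hE.θ) hE.θ_fst hE.θ_snd
    have sq2 : IsPullback n q₁ r p := sq2'.flip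
    have sq := (sq1.paste_horiz sq2).flip
    rw [← pullback.condition] at sq
    have e : pullback.lift (pullback.snd D.obj.hom (pullback.fst g p)) (m₁ ≫ n) hw0 =
        sq.isoPullback.hom := by
      apply pullback.hom_ext
      · rw [pullback.lift_fst, IsPullback.isoPullback_hom_fst]
      · rw [pullback.lift_snd, IsPullback.isoPullback_hom_snd]
    have : IsIso (pullback.lift (pullback.snd D.obj.hom (pullback.fst g p)) (m₁ ≫ n) hw0) := by
      rw [e]
      infer_instance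
    exact this

/-- the main step: effectivity descends along an fpqc base change. -/
theorem exists_effective_of_biQuot [USub g] [Flat p] [Surjective p] [QuasiCompact p]
    [Etale q₁] [IsSeparated q₁] [QuasiCompact q₁] (hq : BiQuot q₁ m₁) :
    ∃ U : Over S, QuasiCompact U.hom ∧ IsSeparated U.hom ∧ Etale U.hom ∧
      Nonempty ((Desc.toDD g).obj U ≅ D) := by
  have : QuasiCompact hq.E.obj.hom := (inferInstance : QuasiCompact q₁)
  have : IsSeparated hq.E.obj.hom := (inferInstance : IsSeparated q₁)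
  have : Etale hq.E.obj.hom := (inferInstance : Etale q₁)
  obtain ⟨U, hU1, hU2, hU3, ⟨e⟩⟩ := Groth.Agent.S2906.result p hq.E
  have hE := DG.isQuot_of_iso U e
  have hQ := isQuot_pullDD hq hE
  obtain ⟨e'⟩ := hQ.nonempty_iso
  exact ⟨U, hU1, hU2, hU3, nonempty_iso_of_pullDD' g (pullback.fst g p) D U e'⟩

end

section fromIso

variable (D : SchDDFam (fun _ : PUnit.{w + 1} => g))

/-- the base-changed descent datum. -/
noncomputable abbrev bcFam : SchDDFam (fun _ : PUnit.{w + 1} => pullback.snd g p) :=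
  (pullDDFam (f := fun _ : PUnit.{w + 1} => g) (f' := fun _ : PUnit.{w + 1} => pullback.snd g p)
    (α := id) (p := p) (p' := fun _ => pullback.fst g p) (fun _ => pullback.condition)).obj D

theorem tr_bc {Z : Scheme.{u}} (z : Z ⟶ V₁ p ((SchDDFam.toSchDD g).obj D)) (x : Z ⟶ pullback g p)
    (h : (z ≫ ((SchDDFam.toSchDD (pullback.snd g p)).obj (bcFam (p := p) D)).obj.hom) ≫
      pullback.snd g p = x ≫ pullback.snd g p)
    (h' : ((z ≫ pullback.snd ((SchDDFam.toSchDD g).obj D).obj.hom (pullback.fst g p)) ≫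
      pullback.fst g p) ≫ g = (x ≫ pullback.fst g p) ≫ g) :
    tr ((SchDDFam.toSchDD (pullback.snd g p)).obj (bcFam (p := p) D)) z x h = trV z x h' := by
  refine trV_ext (D := (SchDDFam.toSchDD g).obj D) z x h' _ ?_ ?_
  · exact DF.tr_pull_fst (f := fun _ : PUnit.{w + 1} => g)
      (f' := fun _ : PUnit.{w + 1} => pullback.snd g p) (α := id) (p := p)
      (p' := fun _ => pullback.fst g p) (fun _ => pullback.condition) D
      (j₀ := PUnit.unit) (j₁ := PUnit.unit) z x h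
  · exact DF.tr_pull_snd (f := fun _ : PUnit.{w + 1} => g)
      (f' := fun _ : PUnit.{w + 1} => pullback.snd g p) (α := id) (p := p)
      (p' := fun _ => pullback.fst g p) (fun _ => pullback.condition) D
      (j₀ := PUnit.unit) (j₁ := PUnit.unit) z x h

theorem exists_biQuot_of_iso (U₁ : Over S₁)
    (e₁ : (toDDFam (fun _ : PUnit.{w + 1} => pullback.snd g p)).obj U₁ ≅ bcFam (p := p) D) :
    ∃ m₁ : V₁ p ((SchDDFam.toSchDD g).obj D) ⟶ U₁.left, BiQuot U₁.hom m₁ := by
  let e₁' : (toDD (pullback.snd g p)).obj U₁ ≅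
      (SchDDFam.toSchDD (pullback.snd g p)).obj (bcFam (p := p) D) :=
    (SchDDFam.toSchDD (pullback.snd g p)).mapIso e₁
  have hQ := DGE.isQuot_of_iso U₁ e₁'
  refine ⟨DGE.isoInvLeft U₁ e₁' ≫ pullback.snd _ U₁.hom, hQ.isPullback_hom, ?_, ?_⟩
  · intro Z z x h hx
    rw [← tr_bc D z x hx h]
    exact hQ.inv z x hx
  · intro Z z₁ z₂ hz h
    obtain ⟨h', e⟩ := isQuot_rel' hQ z₁ z₂ hz
    exact e.trans (tr_bc D z₁ _ h' h)

end fromIso

end Groth.Agent.H40.Bi
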