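import Groth.Agent.H40.DGE.Main
import Groth.Agent.H40.DG.Refine

/-!
# Transport on the base change `V₁ = V ×_{S'} (S' ×_S S₁)` of a descent datum
-/

set_option autoImplicit false
set_option backward.isDefEq.respectTransparency.types false
universe u

open CategoryTheory CategoryTheory.Limits AlgebraicGeometry

namespace Groth.Agent.H40.Bi

open Desc Groth.Agent.H40.DQ

variable {S' S S₁ : Scheme.{u}} {g : S' ⟶ S} (p : S₁ ⟶ S) (D : Desc.SchDD g)

/-- `V₁ = V ×_{S'} X₁`, `X₁ = S' ×_S S₁`. -/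
noncomputable abbrev V₁ : Scheme.{u} := pullback D.obj.hom (pullback.fst g p)

variable {p D}

theorem trV_aux {Z : Scheme.{u}} (z : Z ⟶ V₁ p D) (x : Z ⟶ pullback g p)
    (h : ((z ≫ pullback.snd D.obj.hom (pullback.fst g p)) ≫ pullback.fst g p) ≫ g =
      (x ≫ pullback.fst g p) ≫ g) :
    ((z ≫ pullback.fst D.obj.hom (pullback.fst g p)) ≫ D.obj.hom) ≫ g =
      (x ≫ pullback.fst g p) ≫ g := by
  rw [← h]
  simp only [Category.assoc]
  rw [pullback.condition_assoc]

/-- transport on `V₁` between points with the same image in `S`. -/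
noncomputable def trV {Z : Scheme.{u}} (z : Z ⟶ V₁ p D) (x : Z ⟶ pullback g p)
    (h : ((z ≫ pullback.snd D.obj.hom (pullback.fst g p)) ≫ pullback.fst g p) ≫ g =
      (x ≫ pullback.fst g p) ≫ g) : Z ⟶ V₁ p D :=
  pullback.lift (tr D (z ≫ pullback.fst D.obj.hom (pullback.fst g p)) (x ≫ pullback.fst g p)
    (trV_aux z x h)) x (tr_hom D _ _ _)

@[reassoc (attr := simp)]
theorem trV_fst {Z : Scheme.{u}} (z : Z ⟶ V₁ p D) (x : Z ⟶ pullback g p)
    (h : ((z ≫ pullback.snd D.obj.hom (pullback.fst g p)) ≫ pullback.fst g p) ≫ g =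
      (x ≫ pullback.fst g p) ≫ g) :
    trV z x h ≫ pullback.fst D.obj.hom (pullback.fst g p) =
      tr D (z ≫ pullback.fst D.obj.hom (pullback.fst g p)) (x ≫ pullback.fst g p)
        (trV_aux z x h) := pullback.lift_fst _ _ _

@[reassoc (attr := simp)]
theorem trV_snd {Z : Scheme.{u}} (z : Z ⟶ V₁ p D) (x : Z ⟶ pullback g p)
    (h : ((z ≫ pullback.snd D.obj.hom (pullback.fst g p)) ≫ pullback.fst g p) ≫ g =
      (x ≫ pullback.fst g p) ≫ g) :
    trV z x h ≫ pullback.snd D.obj.hom (pullback.fst g p) = x := pullback.lift_snd _ _ _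

theorem trV_congr {Z : Scheme.{u}} {z z' : Z ⟶ V₁ p D} {x x' : Z ⟶ pullback g p} (ez : z = z')
    (ex : x = x')
    (h : ((z ≫ pullback.snd D.obj.hom (pullback.fst g p)) ≫ pullback.fst g p) ≫ g =
      (x ≫ pullback.fst g p) ≫ g)
    (h' : ((z' ≫ pullback.snd D.obj.hom (pullback.fst g p)) ≫ pullback.fst g p) ≫ g =
      (x' ≫ pullback.fst g p) ≫ g) : trV z x h = trV z' x' h' := by
  subst ez ex
  rfl

theorem trV_ext {Z : Scheme.{u}} (z : Z ⟶ V₁ p D) (x : Z ⟶ pullback g p)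
    (h : ((z ≫ pullback.snd D.obj.hom (pullback.fst g p)) ≫ pullback.fst g p) ≫ g =
      (x ≫ pullback.fst g p) ≫ g) (t : Z ⟶ V₁ p D)
    (h1 : t ≫ pullback.fst D.obj.hom (pullback.fst g p) =
      tr D (z ≫ pullback.fst D.obj.hom (pullback.fst g p)) (x ≫ pullback.fst g p)
        (trV_aux z x h))
    (h2 : t ≫ pullback.snd D.obj.hom (pullback.fst g p) = x) : t = trV z x h := by
  apply pullback.hom_ext
  · rw [h1, trV_fst]
  · rw [h2, trV_snd]

theorem trV_self {Z : Scheme.{u}} (z : Z ⟶ V₁ p D) (x : Z ⟶ pullback g p)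
    (e : x = z ≫ pullback.snd D.obj.hom (pullback.fst g p))
    (h : ((z ≫ pullback.snd D.obj.hom (pullback.fst g p)) ≫ pullback.fst g p) ≫ g =
      (x ≫ pullback.fst g p) ≫ g) : trV z x h = z := by
  symm
  apply trV_ext
  · symm
    apply tr_self'
    rw [e, Category.assoc, Category.assoc, pullback.condition]
  · exact e.symm

theorem trV_trV {Z : Scheme.{u}} (z : Z ⟶ V₁ p D) (x x' : Z ⟶ pullback g p)
    (h : ((z ≫ pullback.snd D.obj.hom (pullback.fst g p)) ≫ pullback.fst g p) ≫ g =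
      (x ≫ pullback.fst g p) ≫ g)
    (h' : ((trV z x h ≫ pullback.snd D.obj.hom (pullback.fst g p)) ≫ pullback.fst g p) ≫ g =
      (x' ≫ pullback.fst g p) ≫ g)
    (h'' : ((z ≫ pullback.snd D.obj.hom (pullback.fst g p)) ≫ pullback.fst g p) ≫ g =
      (x' ≫ pullback.fst g p) ≫ g) :
    trV (trV z x h) x' h' = trV z x' h'' := by
  apply trV_ext
  · rw [trV_fst]
    have h2 : (tr D (z ≫ pullback.fst D.obj.hom (pullback.fst g p)) (x ≫ pullback.fst g p)
        (trV_aux z x h) ≫ D.obj.hom) ≫ g = (x' ≫ pullback.fst g p) ≫ g := by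
      rw [tr_hom, ← h', trV_snd]
    refine Eq.trans (tr_congr D (trV_fst z x h) rfl _ h2) ?_
    exact tr_tr D _ _ _ (trV_aux z x h) h2
  · rw [trV_snd]

theorem precomp_trV {Z Z' : Scheme.{u}} (t : Z' ⟶ Z) (z : Z ⟶ V₁ p D) (x : Z ⟶ pullback g p)
    (h : ((z ≫ pullback.snd D.obj.hom (pullback.fst g p)) ≫ pullback.fst g p) ≫ g =
      (x ≫ pullback.fst g p) ≫ g)
    (h' : (((t ≫ z) ≫ pullback.snd D.obj.hom (pullback.fst g p)) ≫ pullback.fst g p) ≫ g =
      ((t ≫ x) ≫ pullback.fst g p) ≫ g) :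
    t ≫ trV z x h = trV (t ≫ z) (t ≫ x) h' := by
  apply trV_ext
  · rw [Category.assoc, trV_fst, precomp_tr]
    exact tr_congr D (Category.assoc _ _ _).symm (Category.assoc _ _ _).symm _ _
  · rw [Category.assoc, trV_snd]

end Groth.Agent.H40.Bi
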